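import Cfsg.Agent.Lib.LargePrimeTwo.IdentSylow

/-!
# The Sylow subgroups are commutative

In the situation of `IdentSylow` with two classes and `k ≤ 4`, `r ≡ 3 (mod 4)`, a noncommutative Sylow
subgroup `S` would give a subgroup `R` of index `r` whose centre is partitioned by the centres of the
Sylow subgroups containing `R`; their number is even or does not divide the group order.
-/

set_option autoImplicit false
set_option linter.unusedSectionVars false
set_option linter.style.haveILetI false

namespace CfsgLib.LargePrimeTwo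

open Subgroup
open scoped Pointwise

variable {G : Type*} [Group G] [Finite G] {r k M : ℕ}

section

variable [Fact r.Prime] (h : IdentHyp G r k M 2) (hf : Full (G := G) r k)

include h hf

theorem card_centerElt_eq (S T : Sylow r G) :
    Nat.card (CenterElt (S : Subgroup G)) = Nat.card (CenterElt (T : Subgroup G)) := by
  obtain ⟨g, hg⟩ := MulAction.exists_smul_eq G S T
  rw [← hg, Sylow.coe_subgroup_smul, Subgroup.pointwise_smul_def]
  exact card_centerElt_map g _

theorem centerElt_mem {S : Subgroup G} (w : CenterElt S) : (w : G) ∈ S :=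
  (SetLike.ext_iff.mp w.2.2 _).mp (mem_centralizer_singleton_iff.mpr rfl)

theorem centerElt_comm {S : Subgroup G} (w : CenterElt S) {y : G} (hy : y ∈ S) : y * (w : G) = w * y :=
  mem_centralizer_singleton_iff.mp ((SetLike.ext_iff.mp w.2.2 _).mpr hy)

theorem card_center_eq (S : Sylow r G) :
    Nat.card (Subgroup.center (S : Subgroup G)) = Nat.card (CenterElt (S : Subgroup G)) + 1 := by
  classical
  haveI := Fintype.ofFinite G
  have e : Nat.card (CenterElt (S : Subgroup G)) =
      Nat.card {z : Subgroup.center (S : Subgroup G) // z ≠ 1} := by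
    refine Nat.card_eq_of_bijective (fun w => ⟨⟨⟨(w : G), centerElt_mem h hf w⟩,
      mem_center_iff.mpr fun y => Subtype.ext (centerElt_comm h hf w y.2)⟩,
      fun e => w.2.1 (congrArg (fun z : Subgroup.center (S : Subgroup G) => ((z : (S : Subgroup G)) : G)) e)⟩)
      ⟨?_, ?_⟩
    · intro a b hab
      exact Subtype.ext (congrArg
        (fun z : {z : Subgroup.center (S : Subgroup G) // z ≠ 1} => (z.1.1 : G)) hab :)
    · rintro ⟨⟨⟨z, hzS⟩, hz⟩, hz1⟩
      have hz1' : z ≠ 1 := fun e => hz1 (Subtype.ext (Subtype.ext e))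
      exact ⟨⟨z, hz1', h.cent_eq hf hzS hz1' fun y hy =>
        congrArg Subtype.val (mem_center_iff.mp hz ⟨y, hy⟩)⟩, rfl⟩
  haveI := Fintype.ofFinite (Subgroup.center (S : Subgroup G))
  have h1 := Fintype.card_subtype_compl (fun z : Subgroup.center (S : Subgroup G) => z = 1)
  rw [Fintype.card_subtype_eq] at h1
  rw [e, Nat.card_eq_fintype_card, Nat.card_eq_fintype_card, h1]
  have := Fintype.card_pos (α := Subgroup.center (S : Subgroup G))
  omega

/-- The Sylow subgroups are commutative. -/
theorem sylow_comm (hk : k ≤ 4) (hr : r % 4 = 3)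
    (hdiv : k = 4 → ¬ (r ^ 2 + r + 1) ∣ Nat.card G) (S : Sylow r G) :
    IsMulCommutative (S : Subgroup G) := by
  classical
  by_contra hnc
  have hpS : IsPGroup r (S : Subgroup G) := S.2
  obtain ⟨j, hj⟩ := IsPGroup.iff_card.mp (hpS.to_subgroup (Subgroup.center (S : Subgroup G)))
  -- the quotient by the centre is not cyclic
  have hquot : ∀ e, Nat.card ((S : Subgroup G) ⧸ Subgroup.center (S : Subgroup G)) = r ^ e → 2 ≤ e := by
    intro e he
    by_contra hlt
    haveI : IsCyclic ((S : Subgroup G) ⧸ Subgroup.center (S : Subgroup G)) := by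
      interval_cases e
      · exact isCyclic_of_card_dvd_prime (p := r) (by rw [he]; simp)
      · exact isCyclic_of_card_dvd_prime (p := r) (by rw [he, pow_one])
    exact hnc ⟨⟨commutative_of_cyclic_center_quotient
      (QuotientGroup.mk' (Subgroup.center (S : Subgroup G))) (by rw [QuotientGroup.ker_mk'])⟩⟩
  obtain ⟨e, he⟩ := IsPGroup.iff_card.mp (hpS.to_quotient (Subgroup.center (S : Subgroup G)))
  have hje : e + j = k := by
    refine Nat.pow_right_injective h.prime.two_le ?_
    simp only [pow_add]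
    rw [← he, ← hj, ← Subgroup.card_eq_card_quotient_mul_card_subgroup, h.card_sylow S]
  have he2 := hquot e he
  have hj1 : 1 ≤ j := by
    by_contra hj0
    haveI : Nontrivial (S : Subgroup G) := by
      rw [← Finite.one_lt_card_iff_nontrivial, h.card_sylow S]
      exact Nat.one_lt_pow (by have := h.pos; omega) h.prime.one_lt
    haveI := hpS.center_nontrivial
    have := Finite.one_lt_card_iff_nontrivial.mpr (inferInstance : Nontrivial (Subgroup.center (S : Subgroup G)))
    rw [hj, show j = 0 by omega, pow_zero] at this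
    omega
  -- an element of the second centre
  haveI : Nontrivial ((S : Subgroup G) ⧸ Subgroup.center (S : Subgroup G)) := by
    rw [← Finite.one_lt_card_iff_nontrivial, he]
    exact Nat.one_lt_pow (by omega) h.prime.one_lt
  haveI := (hpS.to_quotient (Subgroup.center (S : Subgroup G))).center_nontrivial
  obtain ⟨⟨yq, hyq⟩, hyq1⟩ :=
    exists_ne (1 : Subgroup.center ((S : Subgroup G) ⧸ Subgroup.center (S : Subgroup G)))
  obtain ⟨y, rfl⟩ := QuotientGroup.mk_surjective yq
  have hyZ : y ∉ Subgroup.center (S : Subgroup G) := fun hy =>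
    hyq1 (Subtype.ext ((QuotientGroup.eq_one_iff y).mpr hy))
  have hcomm : ∀ a : (S : Subgroup G), a * y * a⁻¹ * y⁻¹ ∈ Subgroup.center (S : Subgroup G) := by
    intro a
    rw [← QuotientGroup.eq_one_iff]
    have := mem_center_iff.mp hyq (a : (S : Subgroup G) ⧸ Subgroup.center (S : Subgroup G))
    simp only [QuotientGroup.mk_mul, QuotientGroup.mk_inv]
    rw [this, mul_inv_cancel_right, mul_inv_cancel]
  let f : (S : Subgroup G) →* Subgroup.center (S : Subgroup G) :=
    MonoidHom.mk' (fun a => ⟨a * y * a⁻¹ * y⁻¹, hcomm a⟩) fun a b => by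
      refine Subtype.ext ?_
      show a * b * y * (a * b)⁻¹ * y⁻¹ = a * y * a⁻¹ * y⁻¹ * (b * y * b⁻¹ * y⁻¹)
      rw [mem_center_iff.mp (hcomm b) (a * y * a⁻¹ * y⁻¹)]
      calc a * b * y * (a * b)⁻¹ * y⁻¹ = a * (b * y * b⁻¹ * y⁻¹) * (y * a⁻¹ * y⁻¹) := by group
        _ = (b * y * b⁻¹ * y⁻¹) * a * (y * a⁻¹ * y⁻¹) := by rw [mem_center_iff.mp (hcomm b) a]
        _ = _ := by group
  -- the subgroup `R`
  let R : Subgroup G := f.ker.map (S : Subgroup G).subtype
  have hRS : R ≤ S := Subgroup.map_subtype_le _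
  have hRmem : ∀ a : (S : Subgroup G), (a : G) ∈ R ↔ a * y = y * a := by
    intro a
    show (a : G) ∈ f.ker.map _ ↔ _
    rw [← Subgroup.coe_subtype, Subgroup.mem_map_iff_mem (Subtype.val_injective), MonoidHom.mem_ker]
    constructor
    · intro ha
      exact mul_inv_eq_iff_eq_mul.mp (mul_inv_eq_one.mp (congrArg Subtype.val ha))
    · intro ha
      refine Subtype.ext ?_
      show a * y * a⁻¹ * y⁻¹ = 1
      rw [ha, mul_inv_cancel_right, mul_inv_cancel]
  obtain ⟨c, hc⟩ := IsPGroup.iff_card.mp ((hpS.to_subgroup f.ker))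
  have hRc : Nat.card R = r ^ c := by
    rw [← hc]; exact Subgroup.card_map_of_injective Subtype.val_injective
  have hck : c < k ∧ k ≤ c + j := by
    have h1 : f.ker.index ∣ r ^ j := by
      rw [Subgroup.index_ker, ← hj]; exact Subgroup.card_subgroup_dvd_card _
    obtain ⟨d, hdj, hd⟩ := (Nat.dvd_prime_pow h.prime).mp h1
    have h2 := f.ker.card_mul_index
    rw [hc, hd, h.card_sylow S, ← pow_add] at h2
    have h3 : c + d = k := Nat.pow_right_injective h.prime.two_le h2
    have h4 : d ≠ 0 := fun d0 => by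
      rw [d0, pow_zero, Subgroup.index_eq_one] at hd
      refine hyZ (mem_center_iff.mpr fun a => ?_)
      exact (hRmem a).mp ⟨a, hd ▸ Subgroup.mem_top a, rfl⟩
    omega
  -- a central element of `S`
  have hzne : (Subgroup.center (S : Subgroup G)) ≠ ⊥ := fun e => by
    rw [e, Subgroup.card_bot] at hj
    exact absurd hj (Nat.one_lt_pow (by omega) h.prime.one_lt).ne
  obtain ⟨⟨z0, hz0⟩, hz01⟩ := (Subgroup.center (S : Subgroup G)).ne_bot_iff_exists_ne_one.mp hzne
  have hz0G : (z0 : G) ≠ 1 := fun e => hz01 (Subtype.ext (Subtype.ext e))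
  have hCz : centralizer ({(z0 : G)} : Set G) = S :=
    h.cent_eq hf z0.2 hz0G fun a ha => congrArg Subtype.val (mem_center_iff.mp hz0 ⟨a, ha⟩)
  have hz0R : (z0 : G) ∈ R := (hRmem z0).mpr ((mem_center_iff.mp hz0 y).symm)
  have hyR : (y : G) ∈ R := (hRmem y).mpr rfl
  let A : Subgroup G := R ⊓ centralizer (R : Set G)
  have hCA : centralizer (A : Set G) ≤ R := by
    intro g hg
    have hAz : (z0 : G) ∈ A := ⟨hz0R, mem_centralizer_iff.mpr fun a ha =>
      congrArg Subtype.val (mem_center_iff.mp hz0 ⟨a, hRS ha⟩)⟩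
    have hAy : (y : G) ∈ A := ⟨hyR, mem_centralizer_iff.mpr fun a ha =>
      congrArg Subtype.val ((hRmem ⟨a, hRS ha⟩).mp ha)⟩
    have hgS : g ∈ (S : Subgroup G) := hCz ▸ mem_centralizer_singleton_iff.mpr
      ((mem_centralizer_iff.mp hg _ hAz).symm)
    exact (hRmem ⟨g, hgS⟩).mpr (Subtype.ext (mem_centralizer_iff.mp hg _ hAy).symm)
  -- the centres of the Sylow subgroups containing `R` partition the centre of `R`
  have hpart : Nat.card A = Nat.card (Σ T : {T : Sylow r G // R ≤ T}, CenterElt ((T : Sylow r G) : Subgroup G)) + 1 := by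
    have hmem : ∀ T : {T : Sylow r G // R ≤ T}, ∀ w : CenterElt ((T : Sylow r G) : Subgroup G),
        (w : G) ∈ A := by
      intro T w
      have hc : (w : G) ∈ centralizer (R : Set G) :=
        mem_centralizer_iff.mpr fun a ha => centerElt_comm h hf w (T.2 ha)
      have hAsub : A ≤ R := inf_le_left
      refine ⟨hCA (mem_centralizer_iff.mpr fun a ha => mem_centralizer_iff.mp hc a (hAsub ha)), hc⟩
    have e : Nat.card {a : A // a ≠ 1} =
        Nat.card (Σ T : {T : Sylow r G // R ≤ T}, CenterElt ((T : Sylow r G) : Subgroup G)) := by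
      refine (Nat.card_eq_of_bijective (fun p => (⟨⟨(p.2 : G), hmem p.1 p.2⟩,
        fun e => p.2.2.1 (congrArg Subtype.val e)⟩ : {a : A // a ≠ 1})) ⟨?_, ?_⟩).symm
      · rintro ⟨⟨T, hT⟩, x, hx1, hxT⟩ ⟨⟨T', hT'⟩, x', hx1', hxT'⟩ e
        obtain rfl : x = x' := congrArg (fun a : {a : A // a ≠ 1} => ((a : A) : G)) e
        obtain rfl : T = T' := Sylow.ext (hxT.symm.trans hxT')
        rfl
      · rintro ⟨⟨a, ha⟩, ha1⟩
        have hane : a ≠ 1 := fun e => ha1 (Subtype.ext e)
        obtain ⟨T, hT⟩ := h.exists_sylow hf (isRelt_of_mem h (S := S) (hRS ha.1) hane)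
        refine ⟨⟨⟨T, ?_⟩, a, hane, hT.symm⟩, rfl⟩
        rw [hT]
        exact fun b hb => mem_centralizer_singleton_iff.mpr (mem_centralizer_iff.mp ha.2 b hb)
    haveI := Fintype.ofFinite A
    have h1 := Fintype.card_subtype_compl (fun z : A => z = 1)
    rw [Fintype.card_subtype_eq] at h1
    rw [← e, Nat.card_eq_fintype_card, Nat.card_eq_fintype_card, h1]
    have := Fintype.card_pos (α := A)
    omega
  haveI := Fintype.ofFinite {T : Sylow r G // R ≤ T}
  rw [Nat.card_sigma, Finset.sum_eq_card_nsmul (b := Nat.card (CenterElt (S : Subgroup G)))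
    (fun T _ => card_centerElt_eq h hf _ S), smul_eq_mul, Finset.card_univ, ← Nat.card_eq_fintype_card] at hpart
  have hcz := card_center_eq h hf S
  rw [hj] at hcz
  obtain ⟨i, hi⟩ := IsPGroup.iff_card.mp ((S.2.to_le hRS).to_le (inf_le_left : A ≤ R))
  have hAlt : i ≤ c := (Nat.pow_le_pow_iff_right h.prime.one_lt).mp
    (by rw [← hi, ← hRc]; exact Subgroup.card_le_of_le inf_le_left)
  have hAgt : j < i := by
    have hsub : (Subgroup.center (S : Subgroup G)).map (S : Subgroup G).subtype < A := by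
      refine lt_of_le_of_ne ?_ fun e => hyZ ?_
      · rintro _ ⟨w, hw, rfl⟩
        exact ⟨(hRmem w).mpr (mem_center_iff.mp hw y).symm, mem_centralizer_iff.mpr fun a ha =>
          congrArg Subtype.val (mem_center_iff.mp hw ⟨a, hRS ha⟩)⟩
      · have hyA : (y : G) ∈ A := ⟨hyR, mem_centralizer_iff.mpr fun a ha =>
          congrArg Subtype.val ((hRmem ⟨a, hRS ha⟩).mp ha)⟩
        rw [← e, ← Subgroup.coe_subtype, Subgroup.mem_map_iff_mem Subtype.val_injective] at hyA
        exact hyA
    have h1 := Set.ncard_lt_ncard (SetLike.coe_ssubset_coe.mpr hsub) (Set.toFinite _)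
    rw [← Nat.card_coe_set_eq, ← Nat.card_coe_set_eq, SetLike.coe_sort_coe, SetLike.coe_sort_coe, hi,
      Subgroup.card_map_of_injective Subtype.val_injective, hj] at h1
    exact (Nat.pow_lt_pow_iff_right h.prime.one_lt).mp h1
  set m := Nat.card {T : Sylow r G // R ≤ T} with hm
  have hjk : (j = 2 ∧ i = 3) ∨ (j = 1 ∧ c + 1 = k ∧ (i = 2 ∨ i = 3 ∧ k = 4)) := by omega
  have hcz' : Nat.card (CenterElt (S : Subgroup G)) + 1 = r ^ j := hcz.symm
  rw [hi] at hpart
  have hr3 : 3 ≤ r := h.three_le
  rcases hjk with ⟨rfl, rfl⟩ | ⟨rfl, hck1, hi2⟩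
  · -- `r² - 1` does not divide `r³ - 1`
    set z := Nat.card (CenterElt (S : Subgroup G))
    rcases le_or_gt m r with hmr | hmr
    · have := Nat.mul_le_mul_right z hmr
      nlinarith
    · have := Nat.mul_le_mul_right z hmr
      nlinarith
  rw [pow_one] at hcz'
  -- `R` is normal in the Sylow subgroups containing it, so these are conjugate in the normaliser
  have hnorm : ∀ T : Sylow r G, R ≤ T → (T : Subgroup G) ≤ normalizer (R : Set G) := by
    intro T hT
    have hidx : (R.subgroupOf (T : Subgroup G)).index = r := by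
      have h2 := (R.subgroupOf (T : Subgroup G)).card_mul_index
      rw [Nat.card_congr (subgroupOfEquivOfLe hT).toEquiv, hRc, h.card_sylow T, ← hck1, pow_succ] at h2
      exact Nat.eq_of_mul_eq_mul_left (pow_pos h.prime.pos c) h2
    haveI : (R.subgroupOf (T : Subgroup G)).Normal :=
      Subgroup.normal_of_index_eq_minFac_card (by
        rw [hidx, h.card_sylow T, Nat.pow_minFac (by omega), h.prime.minFac_eq])
    exact le_normalizer_of_normal_subgroupOf hT
  have hmdvd : m ∣ Nat.card (normalizer (R : Set G)) := by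
    have horb : (MulAction.orbit (normalizer (R : Set G)) S) = {T : Sylow r G | R ≤ T} := by
      ext T
      constructor
      · rintro ⟨⟨g, hg⟩, rfl⟩
        intro a ha
        show a ∈ ((g • S : Sylow r G) : Subgroup G)
        rw [Sylow.coe_subgroup_smul, Subgroup.mem_pointwise_smul_iff_inv_smul_mem]
        exact hRS (by simpa [MulAut.smul_def] using (mem_normalizer_iff''.mp hg a).mp ha)
      · intro hT
        obtain ⟨g, hg⟩ := MulAction.exists_smul_eq (normalizer (R : Set G))
          (S.subtype (hnorm S hRS)) (T.subtype (hnorm T hT))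
        rw [Sylow.smul_subtype] at hg
        exact ⟨g, Sylow.subtype_injective hg⟩
    rw [hm, show Nat.card {T : Sylow r G // R ≤ T} = Nat.card ({T : Sylow r G | R ≤ T} : Set _) from rfl, ← horb,
      Nat.card_congr (MulAction.orbitEquivQuotientStabilizer (normalizer (R : Set G)) S), ← Subgroup.index_eq_card]
    exact Subgroup.index_dvd_card _
  rcases hi2 with rfl | ⟨rfl, hk4⟩
  · -- `m = r + 1` is even
    have hme : m = r + 1 := by nlinarith
    have h2d : 2 ∣ Nat.card (normalizer (R : Set G)) := dvd_trans ⟨(r + 1) / 2, by omega⟩ hmdvd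
    haveI := Fact.mk Nat.prime_two
    obtain ⟨⟨g, hgN⟩, hgo⟩ := exists_prime_orderOf_dvd_card' 2 h2d
    rw [orderOf_mk] at hgo
    have hgg : g * g = 1 := by rw [← pow_two, ← hgo, pow_orderOf_eq_one]
    have hginv : g⁻¹ = g := inv_eq_of_mul_eq_one_right hgg
    have hgA : ∀ a ∈ A, g * a * g⁻¹ ∈ A := by
      intro a ha
      refine ⟨(mem_normalizer_iff.mp hgN a).mp ha.1, mem_centralizer_iff.mpr fun b hb => ?_⟩
      have hb' : g⁻¹ * b * g ∈ R := (mem_normalizer_iff''.mp hgN b).mp hb
      have := mem_centralizer_iff.mp ha.2 _ hb'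
      calc b * (g * a * g⁻¹) = g * (g⁻¹ * b * g * a) * g⁻¹ := by group
        _ = g * (a * (g⁻¹ * b * g)) * g⁻¹ := by rw [this]
        _ = g * a * g⁻¹ * b := by group
    obtain ⟨w, hwA, hw⟩ : ∃ w ∈ A, g * w * g⁻¹ ≠ w := by
      by_contra hall
      push Not at hall
      have hgR : g ∈ R := hCA (mem_centralizer_iff.mpr fun a ha =>
        (mul_inv_eq_iff_eq_mul.mp (hall a ha)).symm)
      have := Subgroup.orderOf_dvd_natCard _ hgR
      rw [hgo, hRc] at this
      exact h.odd ((Nat.prime_dvd_prime_iff_eq Nat.prime_two h.prime).mp (Nat.prime_two.dvd_of_dvd_pow this)).symm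
    set v := w⁻¹ * (g * w * g⁻¹) with hv
    have hvA : v ∈ A := A.mul_mem (A.inv_mem hwA) (hgA w hwA)
    have hv1 : v ≠ 1 := fun e => hw (inv_mul_eq_one.mp e).symm
    have hgv : g * v * g⁻¹ = v⁻¹ := by
      rw [hv, hginv]
      calc g * (w⁻¹ * (g * w * g)) * g = g * w⁻¹ * g * w * (g * g) := by group
        _ = g * w⁻¹ * g * w := by rw [hgg, mul_one]
        _ = g⁻¹ * w⁻¹ * g⁻¹ * w := by rw [hginv]
        _ = (w⁻¹ * (g * w * g))⁻¹ := by group
    obtain ⟨T, hT⟩ := h.exists_sylow hf (isRelt_of_mem h (S := S) (hRS hvA.1) hv1)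
    have hgT : g ∈ normalizer ((T : Subgroup G) : Set G) := by
      rw [hT, mem_normalizer_iff]
      intro a
      have key : ∀ a : G, a * v = v * a → g * a * g⁻¹ * v = v * (g * a * g⁻¹) := by
        intro a ha
        have hc : Commute a v⁻¹ := (show Commute a v from ha).inv_right
        have : g * (a * v⁻¹) * g⁻¹ = g * (v⁻¹ * a) * g⁻¹ := by rw [hc.eq]
        have e2 : g * v⁻¹ * g⁻¹ = v := by rw [← conj_inv, hgv, inv_inv]
        calc g * a * g⁻¹ * v = g * a * g⁻¹ * (g * v⁻¹ * g⁻¹) := by rw [e2]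
          _ = g * (a * v⁻¹) * g⁻¹ := by group
          _ = g * (v⁻¹ * a) * g⁻¹ := this
          _ = g * v⁻¹ * g⁻¹ * (g * a * g⁻¹) := by group
          _ = v * (g * a * g⁻¹) := by rw [e2]
      rw [mem_centralizer_singleton_iff, mem_centralizer_singleton_iff]
      refine ⟨key a, fun ha => ?_⟩
      have := key _ ha
      rwa [hginv, show g * (g * a * g) * g = (g * g) * a * (g * g) by group, hgg, one_mul, mul_one] at this
    have h2N : 2 ∣ Nat.card (normalizer ((T : Subgroup G) : Set G)) :=
      hgo ▸ Subgroup.orderOf_dvd_natCard _ hgT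
    obtain ⟨l, hl⟩ := h2N
    have hn := h.card_normalizer hf T
    rw [hl, card_centerElt_eq h hf T S] at hn
    have h4 : 4 ∣ r ^ k * Nat.card (CenterElt (S : Subgroup G)) := ⟨l, by rw [← hn]; ring⟩
    have hodd : Nat.Coprime 4 (r ^ k) := Nat.Coprime.pow_right _ (by
      rw [show (4 : ℕ) = 2 ^ 2 by norm_num]
      exact ((Nat.coprime_primes Nat.prime_two h.prime).mpr (Ne.symm h.odd)).pow_left 2)
    obtain ⟨d, hd⟩ := hodd.dvd_of_dvd_mul_left h4
    omega
  · -- `m = r² + r + 1`
    have hme : m = r ^ 2 + r + 1 := by nlinarith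
    exact hdiv hk4 (hme ▸ hmdvd.trans (Subgroup.card_subgroup_dvd_card _))

end

end CfsgLib.LargePrimeTwo
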