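import Cfsg.Agent.Lib.LargePrimeTwo.IdentSylow
import Cfsg.Agent.Lib.BSW.Recognition
import Cfsg.Agent.Lib.Classical.Card

/-!
# From commutative Sylow subgroups with two classes to `PSL(2, q)`
-/

set_option autoImplicit false
set_option linter.unusedSectionVars false
set_option linter.style.haveILetI false

namespace CfsgLib.LargePrimeTwo

open Subgroup
open scoped Pointwise

variable {G : Type*} [Group G] [Finite G] {r k M : ℕ}

/-- The order formula of `PSL(2, q)` for odd `q` determines `q`. -/
theorem eq_of_card_psl {a b : ℕ} (h : a * (a + 1) * (a - 1) = b * (b + 1) * (b - 1)) (hb : 2 ≤ b) :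
    a = b := by
  rcases lt_trichotomy a b with hlt | he | hgt
  · exfalso
    have h1 : a * (a + 1) * (a - 1) ≤ a * (a + 1) * (b - 1) :=
      Nat.mul_le_mul_left _ (Nat.sub_le_sub_right hlt.le 1)
    have h2 : a * (a + 1) * (b - 1) < b * (b + 1) * (b - 1) :=
      Nat.mul_lt_mul_of_pos_right (Nat.mul_lt_mul_of_lt_of_le hlt (by omega) (by omega)) (by omega)
    omega
  · exact he
  · exfalso
    have h1 : b * (b + 1) * (b - 1) ≤ b * (b + 1) * (a - 1) :=
      Nat.mul_le_mul_left _ (Nat.sub_le_sub_right hgt.le 1)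
    have h2 : b * (b + 1) * (a - 1) < a * (a + 1) * (a - 1) :=
      Nat.mul_lt_mul_of_pos_right (Nat.mul_lt_mul_of_lt_of_le hgt (by omega) (by omega)) (by omega)
    omega

/-- The identification. -/
theorem isL2_of_hyp [IsSimpleGroup G] [Fact r.Prime] (h : IdentHyp G r k M 2) (hf : Full (G := G) r k)
    (hcomm : ∀ S : Sylow r G, IsMulCommutative (S : Subgroup G))
    (htwoM : 2 * M + 1 = (r ^ k) ^ 2) (h5 : 5 ≤ r ^ k)
    (hu : (∀ g : G, orderOf g = 2 → Nat.card (centralizer ({g} : Set G)) = r ^ k - 1) ∧ Even ((r ^ k - 1) / 2) ∨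
      ∀ D : Subgroup G, 2 * Nat.card D + 1 = r ^ k → ∃ u ∈ normalizer (D : Set G), u ∉ D) :
    ∃ (F : Type) (_ : Field F) (_ : Fintype F), Fintype.card F = r ^ k ∧
      Nonempty (G ≃* Matrix.ProjectiveSpecialLinearGroup (Fin 2) F) := by
  classical
  obtain ⟨S⟩ := (inferInstance : Nonempty (Sylow r G))
  have hS := h.card_sylow S
  have hcomm' : ∀ a ∈ (S : Subgroup G), ∀ b ∈ (S : Subgroup G), a * b = b * a := fun a ha b hb =>
    congrArg Subtype.val ((hcomm S).is_comm.comm ⟨a, ha⟩ ⟨b, hb⟩)
  have hself : BSW.SelfCent (S : Subgroup G) := fun x hx hx1 =>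
    h.cent_eq hf hx hx1 fun y hy => hcomm' y hy x hx
  have hce : Nat.card (CenterElt (S : Subgroup G)) = r ^ k - 1 := by
    haveI := Fintype.ofFinite G
    haveI := Fintype.ofFinite (S : Subgroup G)
    have e : Nat.card (CenterElt (S : Subgroup G)) = Nat.card {x : (S : Subgroup G) // x ≠ 1} := by
      refine (Nat.card_eq_of_bijective (fun x => (⟨(x.1 : G), fun e => x.2 (Subtype.ext e),
        hself _ x.1.2 fun e => x.2 (Subtype.ext e)⟩ : CenterElt (S : Subgroup G))) ⟨?_, ?_⟩).symm
      · intro a b hab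
        exact Subtype.ext (Subtype.ext (congrArg (fun w : CenterElt (S : Subgroup G) => (w : G)) hab :))
      · rintro ⟨x, hx1, hxS⟩
        exact ⟨⟨⟨x, (SetLike.ext_iff.mp hxS x).mp (mem_centralizer_singleton_iff.mpr rfl)⟩,
          fun e => hx1 (congrArg Subtype.val e)⟩, rfl⟩
    have h1 := Fintype.card_subtype_compl (fun z : (S : Subgroup G) => z = 1)
    rw [Fintype.card_subtype_eq] at h1
    rw [e, Nat.card_eq_fintype_card, h1, ← Nat.card_eq_fintype_card, hS]
  have hN := h.card_normalizer hf S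
  rw [hce] at hN
  set q := r ^ k with hq
  obtain ⟨e, he⟩ : ∃ e, q = 2 * e + 1 := (h.prime.odd_of_ne_two h.odd).pow
  set N := normalizer ((S : Subgroup G) : Set G) with hNdef
  have hNc : Nat.card N = q * e := by
    refine Nat.eq_of_mul_eq_mul_left two_pos ?_
    rw [hN, show q - 1 = 2 * e by omega]
    ring
  have hSN : (S : Subgroup G) ≤ N := le_normalizer
  haveI : ((S : Subgroup G).subgroupOf N).Normal := normal_in_normalizer
  have hSc : Nat.card ((S : Subgroup G).subgroupOf N) = q :=
    (Nat.card_congr (subgroupOfEquivOfLe hSN).toEquiv).trans hS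
  have hSi : ((S : Subgroup G).subgroupOf N).index = e := by
    have := ((S : Subgroup G).subgroupOf N).card_mul_index
    rw [hSc, hNc] at this
    exact Nat.eq_of_mul_eq_mul_left (by omega) this
  obtain ⟨D₀, hD₀⟩ := Subgroup.exists_right_complement'_of_coprime (N := (S : Subgroup G).subgroupOf N) (by
    rw [hSc, hSi, he]
    simp [Nat.Coprime])
  set D := D₀.map N.subtype with hD
  have hDN : D ≤ N := Subgroup.map_subtype_le _
  have hDc : Nat.card D = e := by
    rw [hD, Subgroup.card_map_of_injective N.subtype_injective, ← hSi]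
    exact (hD₀.symm.index_eq_card).symm
  have hinf : (S : Subgroup G) ⊓ D = ⊥ := by
    refine Subgroup.eq_bot_iff_forall _ |>.mpr ?_
    rintro x ⟨hxS, y, hy, rfl⟩
    have hy0 : y ∈ (S : Subgroup G).subgroupOf N ⊓ D₀ := ⟨hxS, hy⟩
    rw [hD₀.disjoint.eq_bot, Subgroup.mem_bot] at hy0
    rw [hy0]; rfl
  have hsup : N = (S : Subgroup G) ⊔ D := by
    have := congrArg (Subgroup.map N.subtype) hD₀.sup_eq_top
    rw [Subgroup.map_sup, Subgroup.subgroupOf_map_subtype, inf_eq_left.mpr hSN, ← MonoidHom.range_eq_map,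
      Subgroup.range_subtype] at this
    exact this.symm
  obtain ⟨u, huN, huD⟩ : ∃ u ∈ normalizer (D : Set G), u ∉ D := by
    rcases hu with ⟨hinv, heven⟩ | hu
    · rw [show (q - 1) / 2 = e by omega] at heven
      haveI := Fact.mk Nat.prime_two
      obtain ⟨⟨t, htD⟩, hto⟩ := exists_prime_orderOf_dvd_card' 2 (hDc ▸ heven.two_dvd : 2 ∣ Nat.card D)
      rw [orderOf_mk] at hto
      -- the involutions of `D` invert `S`
      have hinvS : ∀ w ∈ D, orderOf w = 2 → ∀ x ∈ (S : Subgroup G), w * x * w⁻¹ = x⁻¹ := by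
        intro w hw hwo x hx
        by_contra hne
        have hxw : w * x * w⁻¹ ∈ (S : Subgroup G) := (mem_normalizer_iff.mp (hDN hw) x).mp hx
        have hwi : w⁻¹ = w := BSW.inv_of_two hwo
        have hww : w * w = 1 := (BSW.orderOf_two_iff.mp hwo).1
        set v := x * (w * x * w⁻¹) with hv
        have hvS : v ∈ (S : Subgroup G) := mul_mem hx hxw
        have hv1 : v ≠ 1 := fun e => hne (eq_inv_of_mul_eq_one_right e)
        have hvw : w * v = v * w := by
          rw [hv, hwi]
          calc w * (x * (w * x * w)) = w * x * w * x * w := by group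
            _ = x * (w * x * w) * w := by
              rw [show w * x * w = w * x * w⁻¹ by rw [hwi], ← hcomm' x hx _ hxw]
        have hwS : w ∈ (S : Subgroup G) := hself v hvS hv1 ▸ mem_centralizer_singleton_iff.mpr hvw
        exact (BSW.orderOf_two_iff.mp hwo).2 ((Subgroup.eq_bot_iff_forall _).mp hinf w ⟨hwS, hw⟩)
      have huniq : ∀ w ∈ D, orderOf w = 2 → w = t := by
        intro w hw hwo
        have hti : t⁻¹ = t := BSW.inv_of_two hto
        obtain ⟨⟨x, hx⟩, hx1⟩ := (S : Subgroup G).ne_bot_iff_exists_ne_one.mp (by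
          intro e'; rw [e', Subgroup.card_bot] at hS; omega)
        have hc : w * t * x = x * (w * t) := by
          have e1 := hinvS t htD hto x hx
          have e2 := hinvS w hw hwo x⁻¹ (inv_mem hx)
          rw [inv_inv] at e2
          have : w * t * x * (w * t)⁻¹ = x := by
            calc w * t * x * (w * t)⁻¹ = w * (t * x * t⁻¹) * w⁻¹ := by group
              _ = x := by rw [e1, e2]
          exact mul_inv_eq_iff_eq_mul.mp this
        have hwt : w * t ∈ (S : Subgroup G) :=
          hself x hx (fun e => hx1 (Subtype.ext e)) ▸ mem_centralizer_singleton_iff.mpr hc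
        have h1 := (Subgroup.eq_bot_iff_forall _).mp hinf _ ⟨hwt, mul_mem hw htD⟩
        rw [← hti]
        exact eq_inv_of_mul_eq_one_left h1
      have hDC : D ≤ centralizer ({t} : Set G) := fun d hd => mem_centralizer_singleton_iff.mpr
        (mul_inv_eq_iff_eq_mul.mp (huniq _ (mul_mem (mul_mem hd htD) (inv_mem hd))
          (by rw [BSW.orderOf_conj, hto])))
      have hidx : (D.subgroupOf (centralizer ({t} : Set G))).index = 2 := by
        have := (D.subgroupOf (centralizer ({t} : Set G))).card_mul_index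
        rw [Nat.card_congr (subgroupOfEquivOfLe hDC).toEquiv, hDc, hinv t hto,
          show q - 1 = e * 2 by omega] at this
        exact Nat.eq_of_mul_eq_mul_left (by omega) this
      haveI := Subgroup.normal_of_index_eq_two hidx
      have hle : centralizer ({t} : Set G) ≤ normalizer (D : Set G) := le_normalizer_of_normal_subgroupOf hDC
      obtain ⟨u, hu', hu''⟩ := SetLike.exists_of_lt (lt_of_le_of_ne hDC fun e' => by
        have := hinv t hto
        rw [← e', hDc] at this
        omega)
      exact ⟨u, hle hu', hu''⟩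
    · exact hu D (by omega)
  obtain ⟨F, i1, i2, hodd, ⟨φ⟩⟩ := BSW.isPSL_of_borel (S : Subgroup G) D hself hinf
    hsup (by omega) (by rw [hDc]; omega) (by
      rw [hS, h.card, ← hq, show q - 1 = 2 * e by omega]
      have h2 : 2 * M + 1 = q ^ 2 := htwoM
      rw [he] at h2 ⊢
      linear_combination (2 * e + 1) * h2) u huN huD
  refine ⟨F, i1, i2, eq_of_card_psl ?_ (by omega), ⟨φ⟩⟩
  have hc := Classical.card_PSL_two (F := F)
  rw [← Nat.card_congr φ.toEquiv, h.card, ← hq,
    Nat.gcd_eq_left (show 2 ∣ Fintype.card F - 1 by obtain ⟨a, ha⟩ := hodd; omega)] at hc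
  have h2 : 2 * M + 1 = q ^ 2 := htwoM
  have e1 : ∀ a : ℕ, a * (a + 1) * (a - 1) = a * (a ^ 2 - 1) := fun a => by
    rw [mul_assoc, show a ^ 2 - 1 = (a + 1) * (a - 1) by rw [← Nat.sq_sub_sq, one_pow]]
  rw [e1, e1, show q ^ 2 - 1 = 2 * M by omega, ← hc]
  ring

end CfsgLib.LargePrimeTwo
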