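import Mathlib
import Cfsg.Agent.Lib.BSW.Structure

/-!
# Sylow subgroups with the order and the separation property of `PSL(2, q)`

In a group of order `q M`, `q = r ^ k`, in which every element of order divisible by `r` is an `r`-element and
there are `s M` nontrivial `r`-elements, `s < r`, each of them has a Sylow subgroup as centraliser.
-/

set_option autoImplicit false
set_option linter.unusedSectionVars false
set_option linter.style.haveILetI false

namespace CfsgLib.LargePrimeTwo

open Subgroup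
open scoped Pointwise

variable {G : Type*} [Group G] [Finite G]

/-- The nontrivial `r`-elements. -/
def IsRelt (r k : ℕ) (x : G) : Prop := x ≠ 1 ∧ x ^ r ^ k = 1

/-- The order, the separation property at `r` and the number of `r`-elements. -/
structure IdentHyp (G : Type*) [Group G] (r k M s : ℕ) : Prop where
  prime : r.Prime
  odd : r ≠ 2
  pos : 1 ≤ k
  card : Nat.card G = r ^ k * M
  mPos : 0 < M
  notDvd : ¬ r ∣ M
  sep : ∀ x : G, r ∣ orderOf x → ∃ j : ℕ, orderOf x = r ^ j
  count : Nat.card {x : G // IsRelt r k x} = s * M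

variable {r k M s : ℕ}


theorem IdentHyp.three_le (h : IdentHyp G r k M s) : 3 ≤ r := by
  have := h.prime.two_le
  have := h.odd
  omega

theorem IdentHyp.three_le_q (h : IdentHyp G r k M s) : 3 ≤ r ^ k :=
  h.three_le.trans (Nat.le_self_pow (by have := h.pos; omega) r)

theorem IdentHyp.card_sylow (h : IdentHyp G r k M s) [Fact r.Prime] (S : Sylow r G) :
    Nat.card (S : Subgroup G) = r ^ k := by
  rw [S.card_eq_multiplicity, h.card, Nat.factorization_mul (pow_ne_zero _ h.prime.ne_zero) h.mPos.ne',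
    Finsupp.add_apply, h.prime.factorization_pow, Finsupp.single_eq_same,
    Nat.factorization_eq_zero_of_not_dvd h.notDvd, add_zero]

theorem IdentHyp.cent_pGroup (h : IdentHyp G r k M s) {x : G} (hx : IsRelt r k x) :
    IsPGroup r (centralizer ({x} : Set G)) := by
  haveI := Fact.mk h.prime
  rw [IsPGroup.iff_card]
  obtain ⟨e, he, hoe⟩ : ∃ e ≤ k, orderOf x = r ^ e :=
    (Nat.dvd_prime_pow h.prime).mp (orderOf_dvd_of_pow_eq_one hx.2)
  refine ⟨(Nat.card (centralizer ({x} : Set G))).primeFactorsList.length,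
    Nat.eq_prime_pow_of_unique_prime_dvd Nat.card_pos.ne' fun {l} hl hld => ?_⟩
  haveI := Fact.mk hl
  obtain ⟨⟨y, hy⟩, hyo⟩ := exists_prime_orderOf_dvd_card' l hld
  rw [orderOf_mk] at hyo
  by_contra hne
  have hc : Commute x y := (mem_centralizer_singleton_iff.mp hy).symm
  have hcop : (orderOf x).Coprime (orderOf y) := by
    rw [hoe, hyo]
    exact ((Nat.coprime_primes h.prime hl).mpr (Ne.symm hne)).pow_left e
  have ho := hc.orderOf_mul_eq_mul_orderOf_of_coprime hcop
  have he0 : e ≠ 0 := fun e0 => hx.1 (orderOf_eq_one_iff.mp (by rw [hoe, e0, pow_zero]))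
  obtain ⟨j, hj⟩ := h.sep (x * y) (ho ▸ dvd_mul_of_dvd_left (hoe ▸ dvd_pow_self r he0) _)
  have : l ∣ r ^ j := hj ▸ ho ▸ dvd_mul_of_dvd_right (hyo ▸ dvd_rfl) _
  exact hne ((Nat.prime_dvd_prime_iff_eq hl h.prime).mp (hl.dvd_of_dvd_pow this))

theorem isRelt_conj (g : G) {x : G} (hx : IsRelt r k x) : IsRelt r k (g * x * g⁻¹) :=
  ⟨fun e => hx.1 (by simpa using e), by rw [conj_pow, hx.2, mul_one, mul_inv_cancel]⟩

theorem isRelt_of_mem [Fact r.Prime] (h : IdentHyp G r k M s) {S : Sylow r G} {x : G}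
    (hx : x ∈ (S : Subgroup G)) (hx1 : x ≠ 1) : IsRelt r k x :=
  ⟨hx1, orderOf_dvd_iff_pow_eq_one.mp ((h.card_sylow S) ▸ Subgroup.orderOf_dvd_natCard _ hx)⟩

theorem card_class (x : G) :
    Nat.card {y : G // ∃ g : G, g * x * g⁻¹ = y} = (centralizer ({x} : Set G)).index := by
  rw [Subgroup.index]
  symm
  refine Nat.card_eq_of_bijective
    (Quotient.lift (fun g : G => (⟨g * x * g⁻¹, g, rfl⟩ : {y : G // ∃ g : G, g * x * g⁻¹ = y})) ?_) ⟨?_, ?_⟩
  · intro a b hab
    have hm := mem_centralizer_singleton_iff.mp (QuotientGroup.leftRel_apply.mp hab)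
    refine Subtype.ext ?_
    calc a * x * a⁻¹ = a * (x * (a⁻¹ * b)) * b⁻¹ := by group
      _ = a * (a⁻¹ * b * x) * b⁻¹ := by rw [hm]
      _ = b * x * b⁻¹ := by group
  · intro a b
    refine Quotient.inductionOn₂ a b fun a b hab => Quotient.sound ?_
    have e : a * x * a⁻¹ = b * x * b⁻¹ := congrArg Subtype.val hab
    refine QuotientGroup.leftRel_apply.mpr (mem_centralizer_singleton_iff.mpr ?_)
    calc a⁻¹ * b * x = a⁻¹ * (b * x * b⁻¹) * b := by group
      _ = a⁻¹ * (a * x * a⁻¹) * b := by rw [e]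
      _ = x * (a⁻¹ * b) := by group
  · rintro ⟨y, g, rfl⟩
    exact ⟨⟦g⟧, rfl⟩

theorem IdentHyp.dvd_index (h : IdentHyp G r k M s) {x : G} (hx : IsRelt r k x) :
    M ∣ (centralizer ({x} : Set G)).index := by
  haveI := Fact.mk h.prime
  obtain ⟨j, hj⟩ := IsPGroup.iff_card.mp (h.cent_pGroup hx)
  refine (Nat.Coprime.dvd_of_dvd_mul_left (m := r ^ j) ?_ ?_)
  · exact ((h.prime.coprime_iff_not_dvd.mpr h.notDvd).pow_left j).symm
  · rw [← hj, Subgroup.card_mul_index, h.card]
    exact dvd_mul_left M _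

/-- The centraliser of a nontrivial `r`-element is a Sylow subgroup. -/
theorem IdentHyp.card_cent (h : IdentHyp G r k M s) (hs : s < r) {x : G} (hx : IsRelt r k x) :
    Nat.card (centralizer ({x} : Set G)) = r ^ k := by
  haveI := Fact.mk h.prime
  obtain ⟨j, hj⟩ := IsPGroup.iff_card.mp (h.cent_pGroup hx)
  have hsz : (centralizer ({x} : Set G)).index ≤ s * M := by
    rw [← card_class, ← h.count]
    exact Nat.card_le_card_of_injective
      (fun y => (⟨y.1, by obtain ⟨g, hg⟩ := y.2; exact hg ▸ isRelt_conj g hx⟩ : {y : G // IsRelt r k y}))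
      fun a b hab => Subtype.ext (congrArg Subtype.val hab :)
  have hjk : j ≤ k := (Nat.pow_dvd_pow_iff_le_right h.prime.one_lt).mp
    ((h.prime.coprime_iff_not_dvd.mpr h.notDvd).pow_left j |>.dvd_of_dvd_mul_right
      (by rw [← h.card, ← hj]; exact Subgroup.card_subgroup_dvd_card _))
  have e := (centralizer ({x} : Set G)).card_mul_index
  rw [hj, h.card, show r ^ k = r ^ j * r ^ (k - j) by rw [← pow_add]; congr 1; omega, mul_assoc] at e
  have e2 := Nat.eq_of_mul_eq_mul_left (pow_pos h.prime.pos j) e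
  rw [e2] at hsz
  rw [hj]
  rcases Nat.eq_zero_or_pos (k - j) with h0 | h0
  · congr 1; omega
  · exfalso
    have h3 : r * M ≤ r ^ (k - j) * M := Nat.mul_le_mul_right M (Nat.le_self_pow (by omega) r)
    have h4 : s * M < r * M := Nat.mul_lt_mul_of_pos_right hs h.mPos
    omega

/-- Commutative Sylow subgroups also give the orders of the centralisers. -/
theorem IdentHyp.card_cent_of_comm [Fact r.Prime] (h : IdentHyp G r k M s)
    (hS : ∀ S : Sylow r G, ∀ a ∈ (S : Subgroup G), ∀ b ∈ (S : Subgroup G), a * b = b * a)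
    {x : G} (hx : IsRelt r k x) : Nat.card (centralizer ({x} : Set G)) = r ^ k := by
  obtain ⟨S, hS'⟩ := (h.cent_pGroup hx).exists_le_sylow
  rw [← h.card_sylow S]
  refine congrArg (fun H : Subgroup G => Nat.card H) (le_antisymm hS' fun y hy => ?_)
  exact mem_centralizer_singleton_iff.mpr (hS S y hy x (hS' (mem_centralizer_singleton_iff.mpr rfl)))

/-- The centralisers of nontrivial `r`-elements are Sylow subgroups. -/
def Full (r k : ℕ) : Prop := ∀ x : G, IsRelt r k x → Nat.card (centralizer ({x} : Set G)) = r ^ k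

/-- The Sylow subgroup centralising a nontrivial `r`-element. -/
theorem IdentHyp.exists_sylow [Fact r.Prime] (h : IdentHyp G r k M s) (hf : Full (G := G) r k) {x : G}
    (hx : IsRelt r k x) :
    ∃ S : Sylow r G, (S : Subgroup G) = centralizer ({x} : Set G) := by
  obtain ⟨S, hS⟩ := (h.cent_pGroup hx).exists_le_sylow
  exact ⟨S, (Subgroup.eq_of_le_of_card_ge hS (by rw [h.card_sylow S, hf x hx])).symm⟩

/-- A central element of a Sylow subgroup has that subgroup as centraliser. -/
theorem IdentHyp.cent_eq [Fact r.Prime] (h : IdentHyp G r k M s) (hf : Full (G := G) r k) {S : Sylow r G}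
    {x : G}
    (hx : x ∈ (S : Subgroup G)) (hx1 : x ≠ 1) (hc : ∀ y ∈ (S : Subgroup G), y * x = x * y) :
    centralizer ({x} : Set G) = (S : Subgroup G) :=
  (Subgroup.eq_of_le_of_card_ge (fun y hy => mem_centralizer_singleton_iff.mpr (hc y hy))
    (by rw [h.card_sylow S, hf x (isRelt_of_mem h hx hx1)])).symm

/-- The nontrivial central elements of a Sylow subgroup. -/
abbrev CenterElt (S : Subgroup G) : Type _ :=
  {x : G // x ≠ 1 ∧ centralizer ({x} : Set G) = S}

theorem card_centerElt_map (g : G) (S : Subgroup G) :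
    Nat.card (CenterElt S) = Nat.card (CenterElt (S.map (MulAut.conj g).toMonoidHom)) := by
  refine Nat.card_congr ((MulAut.conj g).toEquiv.subtypeEquiv fun x => ?_)
  change _ ↔ g * x * g⁻¹ ≠ 1 ∧ BSW.czer (g * x * g⁻¹) = _
  rw [BSW.cent_conj, (Subgroup.map_injective (MulEquiv.injective _)).eq_iff]
  constructor
  · exact fun ⟨h1, h2⟩ => ⟨fun e => h1 (by simpa using e), h2⟩
  · exact fun ⟨h1, h2⟩ => ⟨fun e => h1 (by rw [e, mul_one, mul_inv_cancel]), h2⟩

/-- The centre of a Sylow subgroup and the order of its normaliser. -/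
theorem IdentHyp.card_normalizer [Fact r.Prime] (h : IdentHyp G r k M s) (hf : Full (G := G) r k)
    (S : Sylow r G) : s * Nat.card (normalizer ((S : Subgroup G) : Set G)) = r ^ k * Nat.card (CenterElt (S : Subgroup G)) := by
  classical
  have hfib : Nat.card {x : G // IsRelt r k x} = Nat.card (Σ T : Sylow r G, CenterElt (T : Subgroup G)) := by
    refine (Nat.card_eq_of_bijective (fun p => (⟨p.2.1, ?_⟩ : {x : G // IsRelt r k x})) ⟨?_, ?_⟩).symm
    · exact isRelt_of_mem h (S := p.1)
        ((SetLike.ext_iff.mp p.2.2.2 _).mp (mem_centralizer_singleton_iff.mpr rfl)) p.2.2.1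
    · rintro ⟨T, x, hx1, hxT⟩ ⟨T', x', hx1', hxT'⟩ e
      obtain rfl : x = x' := congrArg Subtype.val e
      obtain rfl : T = T' := Sylow.ext (hxT.symm.trans hxT')
      rfl
    · rintro ⟨x, hx⟩
      obtain ⟨T, hT⟩ := h.exists_sylow hf hx
      exact ⟨⟨T, x, hx.1, hT.symm⟩, rfl⟩
  haveI := Fintype.ofFinite (Sylow r G)
  rw [h.count, Nat.card_sigma, Finset.sum_eq_card_nsmul (b := Nat.card (CenterElt (S : Subgroup G)))
    (fun T _ => ?_), smul_eq_mul, Finset.card_univ, ← Nat.card_eq_fintype_card] at hfib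
  · have e := (normalizer ((S : Subgroup G) : Set G)).card_mul_index
    rw [show (normalizer ((S : Subgroup G) : Set G)).index = Nat.card (Sylow r G) from
      S.card_eq_index_normalizer.symm, h.card] at e
    refine Nat.eq_of_mul_eq_mul_right (Nat.card_pos (α := Sylow r G)) ?_
    calc s * Nat.card (normalizer ((S : Subgroup G) : Set G)) * Nat.card (Sylow r G)
        = r ^ k * (s * M) := by rw [mul_assoc, e]; ring
      _ = _ := by rw [hfib]; ring
  · obtain ⟨g, hg⟩ := MulAction.exists_smul_eq G S T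
    rw [← hg, Sylow.coe_subgroup_smul, Subgroup.pointwise_smul_def]
    exact (card_centerElt_map g _).symm

end CfsgLib.LargePrimeTwo
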